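import Mathlib
import Groth.Agent.Lib.Helper5.LocRepF.Main

set_option autoImplicit false
set_option backward.isDefEq.respectTransparency.types false
set_option synthInstance.maxHeartbeats 400000
set_option maxHeartbeats 4000000
set_option linter.style.haveILetI false
set_option linter.unusedSectionVars false
set_option linter.unusedVariables false
set_option linter.unusedSimpArgs false
set_option linter.unnecessarySimpa false

/-! helper2: the functor `T ↦ Hom_{S₀}(T ×_S S₀, U₀)` on schemes over `S` and its Zariski sheaf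
property. -/

open CategoryTheory CategoryTheory.Limits AlgebraicGeometry Opposite
open Groth.Agent.Lib.Helper5.LocRepF

universe w u

namespace Groth.Agent.Helper2.EtThick

variable {S S₀ : Scheme.{u}} (i : S₀ ⟶ S)

/-- the base change to `S₀` of a morphism of schemes over `S`. -/
noncomputable def zm {T₁ T₀ : Scheme.{u}} (t₁ : T₁ ⟶ S) (t : T₀ ⟶ S) (φ : T₁ ⟶ T₀)
    (h : φ ≫ t = t₁) : pullback t₁ i ⟶ pullback t i :=
  pullback.lift (pullback.fst t₁ i ≫ φ) (pullback.snd t₁ i)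
    (by rw [Category.assoc, h, pullback.condition])

section
variable {T₁ T₀ : Scheme.{u}} (t₁ : T₁ ⟶ S) (t : T₀ ⟶ S) (φ : T₁ ⟶ T₀) (h : φ ≫ t = t₁)

@[reassoc]
theorem zm_fst : zm i t₁ t φ h ≫ pullback.fst t i = pullback.fst t₁ i ≫ φ :=
  pullback.lift_fst _ _ _

@[reassoc]
theorem zm_snd : zm i t₁ t φ h ≫ pullback.snd t i = pullback.snd t₁ i :=
  pullback.lift_snd _ _ _

theorem zm_congr {φ' : T₁ ⟶ T₀} (e : φ = φ') (h' : φ' ≫ t = t₁) :
    zm i t₁ t φ h = zm i t₁ t φ' h' := by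
  subst e
  rfl

theorem isPullback_zm :
    IsPullback (zm i t₁ t φ h) (pullback.fst t₁ i) (pullback.fst t i) φ := by
  refine IsPullback.of_right ?_ (zm_fst i t₁ t φ h) (IsPullback.of_hasPullback t i).flip
  rw [zm_snd, h]
  exact (IsPullback.of_hasPullback t₁ i).flip

end

theorem exists_preimage_of_isPullback {P X Y Z : Scheme.{u}} {fst : P ⟶ X} {snd : P ⟶ Y}
    {f : X ⟶ Z} {g : Y ⟶ Z} (sq : IsPullback fst snd f g) (x : X) (y : Y) (h : f x = g y) :
    ∃ z : P, fst z = x ∧ snd z = y := by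
  obtain ⟨z, hz1, hz2⟩ := Scheme.Pullback.exists_preimage_pullback x y h
  refine ⟨sq.isoPullback.inv z, ?_, ?_⟩
  · rw [← Scheme.Hom.comp_apply, IsPullback.isoPullback_inv_fst]; exact hz1
  · rw [← Scheme.Hom.comp_apply, IsPullback.isoPullback_inv_snd]; exact hz2

/-- The functor `T ↦ Hom_{S₀}(T ×_S S₀, U₀)`. -/
noncomputable def liftF (U₀ : Over S₀) : (Over S)ᵒᵖ ⥤ Type u :=
  (Over.pullback i).op ⋙ yoneda.obj U₀

variable {i}

/-- sections as morphisms. -/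
def toHom {U₀ : Over S₀} {T : Over S} (b : (liftF i U₀).obj (op T)) :
    (Over.pullback i).obj T ⟶ U₀ := b

/-- morphisms as sections. -/
def ofHom {U₀ : Over S₀} {T : Over S} (b : (Over.pullback i).obj T ⟶ U₀) :
    (liftF i U₀).obj (op T) := b

@[simp] theorem toHom_ofHom {U₀ : Over S₀} {T : Over S} (b : (Over.pullback i).obj T ⟶ U₀) :
    toHom (ofHom b) = b := rfl

@[simp] theorem ofHom_toHom {U₀ : Over S₀} {T : Over S} (b : (liftF i U₀).obj (op T)) :
    ofHom (toHom b) = b := rfl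

theorem toHom_injective {U₀ : Over S₀} {T : Over S} {b b' : (liftF i U₀).obj (op T)}
    (h : toHom b = toHom b') : b = b' := h

theorem toHom_map {U₀ : Over S₀} {T' T : Over S} (φ : T' ⟶ T)
    (b : (liftF i U₀).obj (op T)) :
    toHom ((liftF i U₀).map φ.op b) = (Over.pullback i).map φ ≫ toHom b := rfl

/-- the underlying morphism of schemes of a section. -/
noncomputable def secL {U₀ : Over S₀} {T₀ : Scheme.{u}} {t : T₀ ⟶ S} (b : (liftF i U₀).obj (op (Over.mk t))) :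
    pullback t i ⟶ U₀.left := (toHom b).left

theorem secL_w {U₀ : Over S₀} {T₀ : Scheme.{u}} {t : T₀ ⟶ S}
    (b : (liftF i U₀).obj (op (Over.mk t))) : secL b ≫ U₀.hom = pullback.snd t i :=
  Over.w (toHom b)

/-- a section from a morphism of schemes over `S₀`. -/
noncomputable def mkSec {U₀ : Over S₀} {T₀ : Scheme.{u}} {t : T₀ ⟶ S} (c : pullback t i ⟶ U₀.left)
    (hc : c ≫ U₀.hom = pullback.snd t i) : (liftF i U₀).obj (op (Over.mk t)) :=
  ofHom (Over.homMk c hc)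

@[simp] theorem secL_mkSec {U₀ : Over S₀} {T₀ : Scheme.{u}} {t : T₀ ⟶ S}
    (c : pullback t i ⟶ U₀.left) (hc : c ≫ U₀.hom = pullback.snd t i) :
    secL (mkSec c hc) = c := rfl

theorem secL_injective {U₀ : Over S₀} {T₀ : Scheme.{u}} {t : T₀ ⟶ S}
    {b b' : (liftF i U₀).obj (op (Over.mk t))} (h : secL b = secL b') : b = b' := by
  apply toHom_injective
  exact Over.OverMorphism.ext h

theorem secL_map {U₀ : Over S₀} {T₁ T₀ : Scheme.{u}} {t₁ : T₁ ⟶ S} {t : T₀ ⟶ S}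
    (a : Over.mk t₁ ⟶ Over.mk t) (b : (liftF i U₀).obj (op (Over.mk t))) :
    secL ((liftF i U₀).map a.op b) = zm i t₁ t a.left (Over.w a) ≫ secL b := rfl

variable (i)

/-- the open cover of `T₀ ×_S S₀` induced by an open cover of `T₀`. -/
noncomputable def zCover {T₀ : Scheme.{u}} (t : T₀ ⟶ S) (𝒱 : Scheme.OpenCover.{w} T₀) :
    Scheme.OpenCover.{w} (pullback t i) where
  I₀ := 𝒱.I₀
  X j := pullback (𝒱.f j ≫ t) i
  f j := zm i (𝒱.f j ≫ t) t (𝒱.f j) rfl
  mem₀ := by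
    rw [Scheme.presieve₀_mem_precoverage_iff]
    refine ⟨fun x => ?_, fun j => ?_⟩
    · obtain ⟨j, y, hy⟩ := 𝒱.exists_eq (pullback.fst t i x)
      obtain ⟨z, hz, -⟩ := exists_preimage_of_isPullback
        (isPullback_zm i (𝒱.f j ≫ t) t (𝒱.f j) rfl) x y hy.symm
      exact ⟨j, z, hz⟩
    · exact MorphismProperty.of_isPullback (P := @IsOpenImmersion)
        (isPullback_zm i (𝒱.f j ≫ t) t (𝒱.f j) rfl).flip (inferInstanceAs (IsOpenImmersion (𝒱.f j)))

/-- compatibility on overlaps. -/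
theorem glue_compat {U₀ : Over S₀} {T₀ Xj Xk : Scheme.{u}} (t : T₀ ⟶ S) (fj : Xj ⟶ T₀)
    (fk : Xk ⟶ T₀) (bj : (liftF i U₀).obj (op (Over.mk (fj ≫ t))))
    (bk : (liftF i U₀).obj (op (Over.mk (fk ≫ t))))
    (h12 : pullback.fst fj fk ≫ fj ≫ t = pullback.snd fj fk ≫ fk ≫ t)
    (key : zm i (pullback.fst fj fk ≫ fj ≫ t) (fj ≫ t) (pullback.fst fj fk) rfl ≫ secL bj =
      zm i (pullback.fst fj fk ≫ fj ≫ t) (fk ≫ t) (pullback.snd fj fk) h12.symm ≫ secL bk) :
    pullback.fst (zm i (fj ≫ t) t fj rfl) (zm i (fk ≫ t) t fk rfl) ≫ secL bj =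
      pullback.snd (zm i (fj ≫ t) t fj rfl) (zm i (fk ≫ t) t fk rfl) ≫ secL bk := by
  obtain ⟨p1, hp1⟩ : ∃ p1, p1 = pullback.fst (zm i (fj ≫ t) t fj rfl) (zm i (fk ≫ t) t fk rfl) :=
    ⟨_, rfl⟩
  obtain ⟨p2, hp2⟩ : ∃ p2, p2 = pullback.snd (zm i (fj ≫ t) t fj rfl) (zm i (fk ≫ t) t fk rfl) :=
    ⟨_, rfl⟩
  have hp : p1 ≫ zm i (fj ≫ t) t fj rfl = p2 ≫ zm i (fk ≫ t) t fk rfl := by
    rw [hp1, hp2]; exact pullback.condition
  rw [← hp1, ← hp2]
  have hm₁ : (p1 ≫ pullback.fst (fj ≫ t) i) ≫ fj = (p2 ≫ pullback.fst (fk ≫ t) i) ≫ fk := by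
    rw [Category.assoc, Category.assoc, ← zm_fst i (fj ≫ t) t fj rfl, ← zm_fst i (fk ≫ t) t fk rfl,
      reassoc_of% hp]
  have hsnd : p1 ≫ pullback.snd (fj ≫ t) i = p2 ≫ pullback.snd (fk ≫ t) i := by
    rw [← zm_snd i (fj ≫ t) t fj rfl, ← zm_snd i (fk ≫ t) t fk rfl, reassoc_of% hp]
  obtain ⟨m₁, hm₁1, hm₁2⟩ : ∃ m₁ : pullback (zm i (fj ≫ t) t fj rfl) (zm i (fk ≫ t) t fk rfl) ⟶
      pullback fj fk, m₁ ≫ pullback.fst fj fk = p1 ≫ pullback.fst (fj ≫ t) i ∧
        m₁ ≫ pullback.snd fj fk = p2 ≫ pullback.fst (fk ≫ t) i :=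
    ⟨pullback.lift _ _ hm₁, pullback.lift_fst _ _ _, pullback.lift_snd _ _ _⟩
  have hm : m₁ ≫ (pullback.fst fj fk ≫ fj ≫ t) = (p1 ≫ pullback.snd (fj ≫ t) i) ≫ i := by
    rw [reassoc_of% hm₁1, Category.assoc, pullback.condition]
  obtain ⟨m, hm1', hm2'⟩ : ∃ m : pullback (zm i (fj ≫ t) t fj rfl) (zm i (fk ≫ t) t fk rfl) ⟶
      pullback (pullback.fst fj fk ≫ fj ≫ t) i,
      m ≫ pullback.fst (pullback.fst fj fk ≫ fj ≫ t) i = m₁ ∧
        m ≫ pullback.snd (pullback.fst fj fk ≫ fj ≫ t) i = p1 ≫ pullback.snd (fj ≫ t) i :=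
    ⟨pullback.lift _ _ hm, pullback.lift_fst _ _ _, pullback.lift_snd _ _ _⟩
  have hm1 : m ≫ zm i (pullback.fst fj fk ≫ fj ≫ t) (fj ≫ t) (pullback.fst fj fk) rfl = p1 := by
    apply pullback.hom_ext
    · rw [Category.assoc, zm_fst, reassoc_of% hm1', hm₁1]
    · rw [Category.assoc, zm_snd, hm2']
  have hm2 : m ≫ zm i (pullback.fst fj fk ≫ fj ≫ t) (fk ≫ t) (pullback.snd fj fk) h12.symm =
      p2 := by
    apply pullback.hom_ext
    · rw [Category.assoc, zm_fst, reassoc_of% hm1', hm₁2]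
    · rw [Category.assoc, zm_snd, hm2', hsnd]
  rw [← hm1, Category.assoc, key, ← Category.assoc, hm2]

theorem liftF_isZarSheaf (U₀ : Over S₀) : IsZarSheaf.{w} (liftF i U₀) where
  sep T₀ t 𝒱 b b' h := by
    apply secL_injective
    apply (zCover i t 𝒱).hom_ext
    intro j
    have := congrArg secL (h j)
    rw [secL_map, secL_map] at this
    exact this
  glue T₀ t 𝒱 b hb := by
    have compat : ∀ j k : 𝒱.I₀,
        pullback.fst ((zCover i t 𝒱).f j) ((zCover i t 𝒱).f k) ≫ secL (b j) =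
        pullback.snd ((zCover i t 𝒱).f j) ((zCover i t 𝒱).f k) ≫ secL (b k) := by
      intro j k
      have h12 : pullback.fst (𝒱.f j) (𝒱.f k) ≫ 𝒱.f j = pullback.snd (𝒱.f j) (𝒱.f k) ≫ 𝒱.f k :=
        pullback.condition
      have h12' : pullback.fst (𝒱.f j) (𝒱.f k) ≫ 𝒱.f j ≫ t =
          pullback.snd (𝒱.f j) (𝒱.f k) ≫ 𝒱.f k ≫ t := by
        rw [← Category.assoc, h12, Category.assoc]
      have key := hb j k _ (pullback.fst (𝒱.f j) (𝒱.f k)) (pullback.snd (𝒱.f j) (𝒱.f k)) h12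
      have key' := congrArg secL key
      rw [secL_map, secL_map] at key'
      refine glue_compat i t (𝒱.f j) (𝒱.f k) (b j) (b k) h12' ?_
      convert key' using 2
      all_goals rfl
    let β₀ : pullback t i ⟶ U₀.left :=
      (zCover i t 𝒱).glueMorphisms (fun j => secL (b j)) compat
    have hβ : ∀ j, zm i (𝒱.f j ≫ t) t (𝒱.f j) rfl ≫ β₀ = secL (b j) := fun j =>
      (zCover i t 𝒱).ι_glueMorphisms (fun j => secL (b j)) compat j
    have hw : β₀ ≫ U₀.hom = pullback.snd t i := by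
      apply (zCover i t 𝒱).hom_ext
      intro j
      change zm i (𝒱.f j ≫ t) t (𝒱.f j) rfl ≫ β₀ ≫ U₀.hom =
        zm i (𝒱.f j ≫ t) t (𝒱.f j) rfl ≫ pullback.snd t i
      rw [reassoc_of% hβ j, zm_snd, secL_w]
    refine ⟨mkSec β₀ hw, fun j => ?_⟩
    apply secL_injective
    rw [secL_map, secL_mkSec]
    exact hβ j

end Groth.Agent.Helper2.EtThick
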