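import Mathlib
import Groth.Agent.Lib.Helper2.EtThick.Sheaf
import Groth.Agent.Lib.Helper7.TopInv

set_option autoImplicit false
set_option backward.isDefEq.respectTransparency.types false
set_option synthInstance.maxHeartbeats 400000
set_option maxHeartbeats 4000000
set_option linter.style.haveILetI false
set_option linter.unusedSectionVars false
set_option linter.unusedVariables false
set_option linter.unusedSimpArgs false
set_option linter.unnecessarySimpa false

/-! helper2: gluing local lifts of an etale scheme along a thickening. -/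

open CategoryTheory CategoryTheory.Limits AlgebraicGeometry Opposite
open Groth.Agent.Lib.Helper5.LocRepF

universe u

namespace Groth.Agent.Helper2.EtThick

variable {S S₀ : Scheme.{u}} (i : S₀ ⟶ S) [IsClosedImmersion i] [Surjective i]

theorem fst_isHomeomorph {T₀ : Scheme.{u}} (t : T₀ ⟶ S) : IsHomeomorph (pullback.fst t i) := by
  have h1 : IsClosedImmersion (pullback.fst t i) := inferInstance
  have h2 : Surjective (pullback.fst t i) := inferInstance
  exact isHomeomorph_iff_isEmbedding_surjective.2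
    ⟨(pullback.fst t i).isClosedEmbedding.isEmbedding, (pullback.fst t i).surjective⟩

section Data

variable (U₀ : Over S₀) {K : Type u} (Wl : K → Scheme.{u}) (wh : ∀ k, Wl k ⟶ S)
  (ξ : ∀ k, (liftF i U₀).obj (op (Over.mk (wh k))))
  (hét : ∀ k, Etale (wh k)) (hξo : ∀ k, IsOpenImmersion (secL (ξ k)))
  (hcovU : ∀ x : U₀.left, ∃ k, x ∈ Set.range (secL (ξ k)))

include hét hξo in
theorem hinj (k : K) (T : Over S) :
    Function.Injective (fun a : T ⟶ Over.mk (wh k) => (liftF i U₀).map a.op (ξ k)) := by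
  intro a a' h
  have h' : toHom ((liftF i U₀).map a.op (ξ k)) = toHom ((liftF i U₀).map a'.op (ξ k)) :=
    congrArg toHom h
  rw [toHom_map, toHom_map] at h'
  haveI : IsOpenImmersion (toHom (ξ k)).left := hξo k
  haveI : Mono (toHom (ξ k)) := Over.mono_of_mono_left _
  have h2 : (Over.pullback i).map a = (Over.pullback i).map a' := (cancel_mono _).1 h'
  haveI : Etale (Over.mk (wh k)).hom := hét k
  exact (Groth.Agent.Helper7.TopInv.main0117 i (Over.mk (wh k)) T).1 h2

/-- the open locus where a section factors through the `k`-th chart. -/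
noncomputable def Uo (hξo : ∀ k, IsOpenImmersion (secL (ξ k))) (k : K) (T₀ : Scheme.{u})
    (t : T₀ ⟶ S) (b : (liftF i U₀).obj (op (Over.mk t))) : T₀.Opens :=
  ⟨pullback.fst t i '' (secL b ⁻¹' Set.range (secL (ξ k))),
    (fst_isHomeomorph i t).isOpenMap _ (IsOpen.preimage (secL b).continuous
      (haveI := hξo k; (secL (ξ k)).isOpenEmbedding.isOpen_range))⟩

theorem mem_Uo (k : K) {T₀ : Scheme.{u}} (t : T₀ ⟶ S) (b : (liftF i U₀).obj (op (Over.mk t)))
    (x : T₀) : x ∈ Uo i U₀ Wl wh ξ hξo k T₀ t b ↔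
      ∃ z : ↥(pullback t i), secL b z ∈ Set.range (secL (ξ k)) ∧ pullback.fst t i z = x :=
  Iff.rfl

include hét in
theorem hU (k : K) (T₀ : Scheme.{u}) (t : T₀ ⟶ S) (b : (liftF i U₀).obj (op (Over.mk t)))
    (T₁ : Scheme.{u}) (φ : T₁ ⟶ T₀) :
    Set.range φ ⊆ (Uo i U₀ Wl wh ξ hξo k T₀ t b : Set T₀) ↔
      ∃ a : Over.mk (φ ≫ t) ⟶ Over.mk (wh k),
        (liftF i U₀).map a.op (ξ k) = (liftF i U₀).map (oHom φ t).op b := by
  constructor
  · intro hsub
    obtain ⟨c, hc⟩ : ∃ c : pullback (φ ≫ t) i ⟶ U₀.left, c = zm i (φ ≫ t) t φ rfl ≫ secL b :=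
      ⟨_, rfl⟩
    have hrange : Set.range c ⊆ Set.range (secL (ξ k)) := by
      rintro _ ⟨z, rfl⟩
      have h1 : φ (pullback.fst (φ ≫ t) i z) ∈ Uo i U₀ Wl wh ξ hξo k T₀ t b := hsub ⟨_, rfl⟩
      obtain ⟨z', hz'1, hz'2⟩ := h1
      have h2 : pullback.fst t i (zm i (φ ≫ t) t φ rfl z) = φ (pullback.fst (φ ≫ t) i z) := by
        rw [← Scheme.Hom.comp_apply, zm_fst, Scheme.Hom.comp_apply]
      have h3 : z' = zm i (φ ≫ t) t φ rfl z :=
        (fst_isHomeomorph i t).injective (hz'2.trans h2.symm)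
      rw [hc, Scheme.Hom.comp_apply, ← h3]
      exact hz'1
    haveI := hξo k
    obtain ⟨c', hc'⟩ : ∃ c' : pullback (φ ≫ t) i ⟶ pullback (wh k) i, c' ≫ secL (ξ k) = c :=
      ⟨IsOpenImmersion.lift (secL (ξ k)) c hrange, IsOpenImmersion.lift_fac _ _ _⟩
    have hc'w : c' ≫ pullback.snd (wh k) i = pullback.snd (φ ≫ t) i := by
      rw [← secL_w (ξ k), reassoc_of% hc', hc, Category.assoc, secL_w, zm_snd]
    let c'' : (Over.pullback i).obj (Over.mk (φ ≫ t)) ⟶ (Over.pullback i).obj (Over.mk (wh k)) :=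
      Over.homMk c' hc'w
    haveI : Etale (Over.mk (wh k)).hom := hét k
    obtain ⟨a, ha⟩ := (Groth.Agent.Helper7.TopInv.main0117 i (Over.mk (wh k))
      (Over.mk (φ ≫ t))).2 c''
    have ha' : zm i (φ ≫ t) (wh k) a.left (Over.w a) = c' := congrArg (fun m => m.left) ha
    refine ⟨a, ?_⟩
    apply secL_injective
    rw [secL_map, secL_map, ha', hc', hc]
    rfl
  · rintro ⟨a, ha⟩ _ ⟨x, rfl⟩
    obtain ⟨z, rfl⟩ := (fst_isHomeomorph i (φ ≫ t)).surjective x
    have ha' := congrArg secL ha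
    rw [secL_map, secL_map] at ha'
    refine ⟨zm i (φ ≫ t) t φ rfl z, ?_, ?_⟩
    · have : secL b (zm i (φ ≫ t) t φ rfl z) =
          secL (ξ k) (zm i (φ ≫ t) (wh k) a.left (Over.w a) z) := by
        rw [← Scheme.Hom.comp_apply, ← Scheme.Hom.comp_apply, ha']
        rfl
      change secL b (zm i (φ ≫ t) t φ rfl z) ∈ Set.range (secL (ξ k))
      rw [this]
      exact ⟨_, rfl⟩
    · rw [← Scheme.Hom.comp_apply, zm_fst, Scheme.Hom.comp_apply]

include hcovU in
theorem hcov (T₀ : Scheme.{u}) (t : T₀ ⟶ S) (b : (liftF i U₀).obj (op (Over.mk t))) (x : T₀) :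
    ∃ k, x ∈ Uo i U₀ Wl wh ξ hξo k T₀ t b := by
  obtain ⟨z, rfl⟩ := (fst_isHomeomorph i t).surjective x
  obtain ⟨k, hk⟩ := hcovU (secL b z)
  exact ⟨k, z, hk, rfl⟩

include hét hξo hcovU in
theorem isRepresentable : (liftF i U₀).IsRepresentable :=
  isRepresentable_of_openCover (fun k => Over.mk (wh k)) ξ
    (hinj i U₀ Wl wh ξ hét hξo) (Uo i U₀ Wl wh ξ hξo) (hU i U₀ Wl wh ξ hét hξo)
    (liftF_isZarSheaf i U₀) (hcov i U₀ Wl wh ξ hξo hcovU)

end Data

end Groth.Agent.Helper2.EtThick
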