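import Mathlib
import Groth.Agent.Lib.Helper2.EtThick.Rep

set_option autoImplicit false
set_option backward.isDefEq.respectTransparency.types false
set_option synthInstance.maxHeartbeats 400000
set_option maxHeartbeats 4000000
set_option linter.style.haveILetI false
set_option linter.unusedSectionVars false
set_option linter.unusedVariables false
set_option linter.unusedSimpArgs false
set_option linter.unnecessarySimpa false

/-! helper2: the scheme representing `T ↦ Hom_{S₀}(T ×_S S₀, U₀)` is etale over `S` and lifts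
`U₀`. -/

open CategoryTheory CategoryTheory.Limits AlgebraicGeometry Opposite
open Groth.Agent.Lib.Helper5.LocRepF

universe u

namespace Groth.Agent.Helper2.EtThick

variable {S S₀ : Scheme.{u}} (i : S₀ ⟶ S) [IsClosedImmersion i] [Surjective i]

section Iso

variable (U₀ : Over S₀) {El : Scheme.{u}} (e : El ⟶ S)
  (r : (liftF i U₀).RepresentableBy (Over.mk e))

/-- the universal section. -/
noncomputable def univ : (liftF i U₀).obj (op (Over.mk e)) := r.homEquiv (𝟙 _)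

theorem homEquiv_eq {T : Over S} (g : T ⟶ Over.mk e) :
    r.homEquiv g = (liftF i U₀).map g.op (univ i U₀ e r) := r.homEquiv_eq g

include r in
theorem exists_iso : ∃ ε : pullback e i ≅ U₀.left, ε.hom ≫ U₀.hom = pullback.snd e i := by
  haveI : Mono i := inferInstance
  obtain ⟨β, hβ⟩ : ∃ β, β = univ i U₀ e r := ⟨_, rfl⟩
  obtain ⟨t₀, ht₀⟩ : ∃ t₀ : U₀.left ⟶ S, t₀ = U₀.hom ≫ i := ⟨_, rfl⟩
  haveI hκiso : IsIso (pullback.fst t₀ i) := by rw [ht₀]; infer_instance
  have hκw : pullback.fst t₀ i ≫ U₀.hom = pullback.snd t₀ i := by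
    rw [← cancel_mono i, Category.assoc, ← ht₀]; exact pullback.condition
  obtain ⟨κsec, hκsec⟩ : ∃ κsec : (liftF i U₀).obj (op (Over.mk t₀)),
      κsec = mkSec (pullback.fst t₀ i) hκw := ⟨_, rfl⟩
  obtain ⟨c, hc0⟩ : ∃ c : Over.mk t₀ ⟶ Over.mk e, c = r.homEquiv.symm κsec := ⟨_, rfl⟩
  have hc : (liftF i U₀).map c.op β = κsec := by
    rw [hβ, ← homEquiv_eq, hc0]; exact r.homEquiv.apply_symm_apply _
  have hcw : c.left ≫ e = t₀ := Over.w c
  have hc' : zm i t₀ e c.left hcw ≫ secL β = pullback.fst t₀ i := by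
    have := congrArg secL hc
    rwa [secL_map, hκsec, secL_mkSec] at this
  obtain ⟨γl, hγl⟩ : ∃ γl : U₀.left ⟶ pullback e i,
      γl = inv (pullback.fst t₀ i) ≫ zm i t₀ e c.left hcw := ⟨_, rfl⟩
  have h1 : γl ≫ secL β = 𝟙 _ := by rw [hγl, Category.assoc, hc', IsIso.inv_hom_id]
  have hγfst : γl ≫ pullback.fst e i = c.left := by
    rw [hγl, Category.assoc, zm_fst, IsIso.inv_hom_id_assoc]
  have hγsnd : γl ≫ pullback.snd e i = U₀.hom := by
    rw [hγl, Category.assoc, zm_snd, ← hκw, IsIso.inv_hom_id_assoc]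
  obtain ⟨t₁, ht₁⟩ : ∃ t₁ : pullback e i ⟶ S, t₁ = pullback.snd e i ≫ i := ⟨_, rfl⟩
  have hw1 : pullback.fst e i ≫ e = t₁ := by rw [ht₁]; exact pullback.condition
  have hw2 : (secL β ≫ c.left) ≫ e = t₁ := by
    rw [Category.assoc, hcw, ht₀, ← Category.assoc, secL_w, ht₁]
  have hκ'w : pullback.fst t₁ i ≫ pullback.snd e i = pullback.snd t₁ i := by
    rw [← cancel_mono i, Category.assoc, ← ht₁]; exact pullback.condition
  have hz1 : zm i t₁ e (pullback.fst e i) hw1 = pullback.fst t₁ i := by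
    apply pullback.hom_ext
    · rw [zm_fst]
    · rw [zm_snd, hκ'w]
  have hz2 : zm i t₁ e (secL β ≫ c.left) hw2 = pullback.fst t₁ i ≫ secL β ≫ γl := by
    apply pullback.hom_ext
    · rw [zm_fst]; simp only [Category.assoc, hγfst]
    · rw [zm_snd]; simp only [Category.assoc, hγsnd, secL_w, hκ'w]
  have hd : (Over.homMk (pullback.fst e i) hw1 : Over.mk t₁ ⟶ Over.mk e) =
      Over.homMk (secL β ≫ c.left) hw2 := by
    apply r.homEquiv.injective
    rw [homEquiv_eq, homEquiv_eq, ← hβ]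
    apply secL_injective
    rw [secL_map, secL_map]
    change zm i t₁ e (pullback.fst e i) hw1 ≫ secL β = zm i t₁ e (secL β ≫ c.left) hw2 ≫ secL β
    rw [hz1, hz2]
    simp only [Category.assoc, h1, Category.comp_id]
  have key : pullback.fst e i = secL β ≫ c.left := congrArg (fun m => m.left) hd
  have h2 : secL β ≫ γl = 𝟙 _ := by
    apply pullback.hom_ext
    · rw [Category.assoc, hγfst, ← key, Category.id_comp]
    · rw [Category.assoc, hγsnd, secL_w, Category.id_comp]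
  exact ⟨⟨secL β, γl, h2, h1⟩, secL_w β⟩

end Iso

section Etale

variable (U₀ : Over S₀) {K : Type u} (Wl : K → Scheme.{u}) (wh : ∀ k, Wl k ⟶ S)
  (ξ : ∀ k, (liftF i U₀).obj (op (Over.mk (wh k))))
  (hét : ∀ k, Etale (wh k)) (hξo : ∀ k, IsOpenImmersion (secL (ξ k)))
  (hcovU : ∀ x : U₀.left, ∃ k, x ∈ Set.range (secL (ξ k)))
  {El : Scheme.{u}} (e : El ⟶ S) (r : (liftF i U₀).RepresentableBy (Over.mk e))

/-- the chart maps. -/
noncomputable def ak (k : K) : Over.mk (wh k) ⟶ Over.mk e := r.homEquiv.symm (ξ k)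

theorem map_ak (k : K) : (liftF i U₀).map (ak i U₀ Wl wh ξ e r k).op (univ i U₀ e r) = ξ k := by
  rw [← homEquiv_eq]; exact r.homEquiv.apply_symm_apply _

include hét in
theorem star (k : K) {T₁ : Scheme.{u}} (φ : T₁ ⟶ El) :
    Set.range φ ⊆ (Uo i U₀ Wl wh ξ hξo k El e (univ i U₀ e r) : Set El) ↔
      ∃ a' : Over.mk (φ ≫ e) ⟶ Over.mk (wh k), a'.left ≫ (ak i U₀ Wl wh ξ e r k).left = φ := by
  rw [hU i U₀ Wl wh ξ hét hξo k El e (univ i U₀ e r) T₁ φ]
  constructor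
  · rintro ⟨a', ha'⟩
    refine ⟨a', ?_⟩
    have h1 : (liftF i U₀).map a'.op (ξ k) = r.homEquiv (a' ≫ ak i U₀ Wl wh ξ e r k) := by
      rw [homEquiv_eq, ← map_map, map_ak]
    have h2 : (liftF i U₀).map (oHom φ e).op (univ i U₀ e r) = r.homEquiv (oHom φ e) :=
      (homEquiv_eq i U₀ e r _).symm
    have h3 : a' ≫ ak i U₀ Wl wh ξ e r k = oHom φ e :=
      r.homEquiv.injective (by rw [← h1, ← h2, ha'])
    have := congrArg (fun m => m.left) h3
    simpa using this
  · rintro ⟨a', ha'⟩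
    refine ⟨a', ?_⟩
    have h3 : a' ≫ ak i U₀ Wl wh ξ e r k = oHom φ e := Over.OverMorphism.ext (by simpa using ha')
    rw [← map_ak i U₀ Wl wh ξ e r k, map_map, h3]

local notation "𝒪[" k "]" => Uo i U₀ Wl wh ξ hξo k El e (univ i U₀ e r)
local notation "𝒶[" k "]" => ak i U₀ Wl wh ξ e r k

include hét in
theorem exists_chart_iso (k : K) :
    ∃ s : (𝒪[k]).toScheme ⟶ Wl k, IsIso s ∧ s ≫ wh k = (𝒪[k]).ι ≫ e := by
  have haw : (𝒶[k]).left ≫ e = wh k := Over.w (𝒶[k])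
  have hrange : Set.range (𝒶[k]).left ⊆ ((𝒪[k] : El.Opens) : Set El) := by
    rw [star i U₀ Wl wh ξ hét hξo e r k (𝒶[k]).left]
    refine ⟨Over.homMk (𝟙 _) ?_, ?_⟩
    · simp only [Over.mk_left, Over.mk_hom, Category.id_comp]
      exact haw.symm
    · exact Category.id_comp _
  obtain ⟨s, hs⟩ := (star i U₀ Wl wh ξ hét hξo e r k (𝒪[k]).ι).1
    (by rw [Scheme.Opens.range_ι])
  have hsw : s.left ≫ wh k = (𝒪[k]).ι ≫ e := Over.w s
  obtain ⟨a'', ha''⟩ : ∃ a'' : Wl k ⟶ (𝒪[k]).toScheme, a'' ≫ (𝒪[k]).ι = (𝒶[k]).left :=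
    ⟨IsOpenImmersion.lift (𝒪[k]).ι (𝒶[k]).left (by rw [Scheme.Opens.range_ι]; exact hrange),
      IsOpenImmersion.lift_fac _ _ _⟩
  have h1 : s.left ≫ a'' = 𝟙 _ := by
    rw [← cancel_mono (𝒪[k]).ι, Category.assoc, ha'', Category.id_comp]
    exact hs
  have hcw : (a'' ≫ s.left) ≫ wh k = wh k := by
    rw [Category.assoc, hsw, reassoc_of% ha'', haw]
  have h2 : a'' ≫ s.left = 𝟙 _ := by
    have hcc : (Over.homMk (a'' ≫ s.left) hcw : Over.mk (wh k) ⟶ Over.mk (wh k)) = 𝟙 _ := by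
      apply hinj i U₀ Wl wh ξ hét hξo k (Over.mk (wh k))
      change (liftF i U₀).map (Over.homMk (a'' ≫ s.left) hcw : Over.mk (wh k) ⟶ _).op (ξ k) =
        (liftF i U₀).map (𝟙 (Over.mk (wh k))).op (ξ k)
      have e1 : (Over.homMk (a'' ≫ s.left) hcw : Over.mk (wh k) ⟶ Over.mk (wh k)) ≫ 𝒶[k] =
          𝒶[k] := by
        apply Over.OverMorphism.ext
        change (a'' ≫ s.left) ≫ (𝒶[k]).left = (𝒶[k]).left
        rw [Category.assoc, hs, ha'']
      conv_lhs => rw [← map_ak i U₀ Wl wh ξ e r k, map_map, e1]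
      rw [map_ak]
      simp
    exact congrArg (fun m => m.left) hcc
  exact ⟨s.left, ⟨a'', h1, h2⟩, hsw⟩

include hét hξo hcovU r in
theorem etale_of_rep : Etale e := by
  apply IsZariskiLocalAtSource.of_iSup_eq_top (P := @Etale)
    (fun k => Uo i U₀ Wl wh ξ hξo k El e (univ i U₀ e r))
  · rw [eq_top_iff]
    intro x _
    obtain ⟨k, hk⟩ := hcov i U₀ Wl wh ξ hξo hcovU El e (univ i U₀ e r) x
    exact TopologicalSpace.Opens.mem_iSup.2 ⟨k, hk⟩
  · intro k
    obtain ⟨s, hs, hse⟩ := exists_chart_iso i U₀ Wl wh ξ hét hξo e r k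
    rw [← hse]
    haveI := hét k
    infer_instance

end Etale

/-- **Gluing local lifts**: an etale `S₀`-scheme which locally lifts to etale `S`-schemes lifts to
an etale `S`-scheme. -/
theorem exists_lift_of_local (U₀ : Over S₀) {K : Type u} (Wl : K → Scheme.{u})
    (wh : ∀ k, Wl k ⟶ S) (ξ : ∀ k, (liftF i U₀).obj (op (Over.mk (wh k))))
    (hét : ∀ k, Etale (wh k)) (hξo : ∀ k, IsOpenImmersion (secL (ξ k)))
    (hcovU : ∀ x : U₀.left, ∃ k, x ∈ Set.range (secL (ξ k))) :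
    ∃ (El : Scheme.{u}) (e : El ⟶ S), Etale e ∧
      ∃ ε : pullback e i ≅ U₀.left, ε.hom ≫ U₀.hom = pullback.snd e i := by
  obtain ⟨E, ⟨r⟩⟩ := (isRepresentable i U₀ Wl wh ξ hét hξo hcovU).has_representation
  have r' : (liftF i U₀).RepresentableBy (Over.mk E.hom) := r
  exact ⟨E.left, E.hom, etale_of_rep i U₀ Wl wh ξ hét hξo hcovU E.hom r',
    exists_iso i U₀ E.hom r'⟩

end Groth.Agent.Helper2.EtThick
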