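import Mathlib
import Groth.Prelude.Def_EtBase
import Groth.Agent.Lib.Helper2.EtThick.Glue
import Groth.Agent.Lib.Helper5.Misc.EtClosedLift
import Groth.Agent.Lib.Helper7.TopInv

set_option autoImplicit false
set_option backward.isDefEq.respectTransparency.types false
set_option synthInstance.maxHeartbeats 400000
set_option maxHeartbeats 4000000
set_option linter.style.haveILetI false
set_option linter.unusedSectionVars false
set_option linter.unusedVariables false
set_option linter.unusedSimpArgs false
set_option linter.unnecessarySimpa false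

/-! helper2: topological invariance of the small etale site for thickenings: base change along a
surjective closed immersion is an equivalence of categories of etale schemes. -/

open CategoryTheory CategoryTheory.Limits AlgebraicGeometry Opposite

universe u

namespace Groth.Agent.Helper2.EtThick

section Abstract

universe v₁ v₂ v₃ v₄ u₁ u₂ u₃ u₄

variable {C : Type u₁} [Category.{v₁} C] {D : Type u₂} [Category.{v₂} D]
  {C' : Type u₃} [Category.{v₃} C'] {D' : Type u₄} [Category.{v₄} D']

/-- a functor which becomes bijective on morphisms after fully faithful embeddings is fully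
faithful. -/
theorem full_faithful_of_iso (F : C ⥤ D) (G : C ⥤ C') (G' : D ⥤ D') (H : C' ⥤ D')
    (e : F ⋙ G' ≅ G ⋙ H) [G.Full] [G.Faithful] [G'.Full] [G'.Faithful]
    (hH : ∀ A B : C, Function.Bijective (fun φ : G.obj A ⟶ G.obj B => H.map φ)) :
    F.Full ∧ F.Faithful := by
  have nat1 : ∀ {A B : C} (φ : A ⟶ B),
      H.map (G.map φ) = e.inv.app A ≫ G'.map (F.map φ) ≫ e.hom.app B := by
    intro A B φ
    have := NatIso.naturality_1 e φ
    simpa using this.symm
  have nat2 : ∀ {A B : C} (φ : A ⟶ B),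
      G'.map (F.map φ) = e.hom.app A ≫ H.map (G.map φ) ≫ e.inv.app B := by
    intro A B φ
    have := NatIso.naturality_2 e φ
    simpa using this.symm
  refine ⟨⟨fun {A B} g => ?_⟩, ⟨fun {A B} φ ψ h => ?_⟩⟩
  · obtain ⟨φ', hφ'⟩ := (hH A B).2 (e.inv.app A ≫ G'.map g ≫ e.hom.app B)
    obtain ⟨φ, rfl⟩ := G.map_surjective φ'
    refine ⟨φ, G'.map_injective ?_⟩
    have hφ'' : H.map (G.map φ) = e.inv.app A ≫ G'.map g ≫ e.hom.app B := hφ'
    rw [nat2, hφ'']
    simp
  · apply G.map_injective
    apply (hH A B).1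
    change H.map (G.map φ) = H.map (G.map ψ)
    rw [nat1, nat1, h]

end Abstract

variable {S S₀ : Scheme.{u}} (i : S₀ ⟶ S) [IsClosedImmersion i] [Surjective i]

/-- local lifts exist. -/
theorem exists_local_lift (U₀ : Over S₀) [Etale U₀.hom] (x : U₀.left) :
    ∃ (Wl : Scheme.{u}) (wh : Wl ⟶ S) (_ : Etale wh) (ξ : (liftF i U₀).obj (op (Over.mk wh))),
      IsOpenImmersion (secL ξ) ∧ x ∈ Set.range (secL ξ) := by
  obtain ⟨V, v, hv, T, t, ht, a, hx, hpb⟩ :=
    Groth.Agent.Lib.Helper5.EtClosedLift.exists_lift i U₀.hom x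
  have hc : (hpb.isoPullback.inv ≫ t) ≫ U₀.hom = pullback.snd v i := by
    rw [Category.assoc]; exact hpb.isoPullback_inv_snd
  refine ⟨V, v, hv, mkSec (hpb.isoPullback.inv ≫ t) hc, ?_, ?_⟩
  · rw [secL_mkSec]; infer_instance
  · rw [secL_mkSec]
    obtain ⟨y, hy⟩ := hx
    refine ⟨hpb.isoPullback.hom y, ?_⟩
    rw [← Scheme.Hom.comp_apply, Iso.hom_inv_id_assoc]
    exact hy

/-- essential surjectivity on the level of schemes. -/
theorem exists_etale_lift (U₀ : Over S₀) [Etale U₀.hom] :
    ∃ (El : Scheme.{u}) (e : El ⟶ S), Etale e ∧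
      ∃ ε : pullback e i ≅ U₀.left, ε.hom ≫ U₀.hom = pullback.snd e i := by
  choose Wl wh hét ξ hξo hξx using exists_local_lift i U₀
  exact exists_lift_of_local i U₀ Wl wh ξ hét hξo (fun x => ⟨x, hξx x⟩)

theorem bc_full_faithful : (EtCoh.bc i).Full ∧ (EtCoh.bc i).Faithful := by
  refine full_faithful_of_iso (EtCoh.bc i) (Scheme.Etale.forget S) (Scheme.Etale.forget S₀)
    (Over.pullback i)
    (MorphismProperty.Over.pullbackCompForgetIso (P := EtCoh.etaleMP) (Q := ⊤) i) ?_
  intro A B
  haveI : Etale ((Scheme.Etale.forget S).obj B).hom := B.prop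
  exact Groth.Agent.Helper7.TopInv.main0117 i ((Scheme.Etale.forget S).obj B)
    ((Scheme.Etale.forget S).obj A)

theorem bc_essSurj : (EtCoh.bc i).EssSurj := by
  refine ⟨fun U₀' => ?_⟩
  haveI : Etale ((Scheme.Etale.forget S₀).obj U₀').hom := U₀'.prop
  obtain ⟨El, e, hE, ε, hε⟩ := exists_etale_lift i ((Scheme.Etale.forget S₀).obj U₀')
  refine ⟨MorphismProperty.Over.mk ⊤ e hE, ⟨MorphismProperty.Over.isoMk ε ?_⟩⟩
  exact hε

/-- **Topological invariance of the small etale site for thickenings.** -/
theorem bc_isEquivalence : (EtCoh.bc i).IsEquivalence := by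
  have hff := bc_full_faithful i
  exact { faithful := hff.2, full := hff.1, essSurj := bc_essSurj i }

end Groth.Agent.Helper2.EtThick
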